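import Mathlib.RingTheory.AlgebraicIndependent.Basic
import Mathlib.Algebra.MvPolynomial.Equiv
import Mathlib.Algebra.MvPolynomial.NoZeroDivisors
import Mathlib.Algebra.Polynomial.Div
import Mathlib.RingTheory.Ideal.KrullsHeightTheorem

/-!
A generic linear combination of elements is independent of the coefficients.
-/

set_option autoImplicit false

universe u

open MvPolynomial

namespace Groth.L28.GenericIndep

theorem injective_of_coeff_zero {R S : Type*} [CommRing R] [CommRing S] [IsDomain S]
    (Φ : Polynomial R →+* Polynomial S) (ψ : R →+* S) (hX : Φ Polynomial.X = Polynomial.X)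
    (hC : ∀ r, (Φ (Polynomial.C r)).coeff 0 = ψ r) (hψ : Function.Injective ψ) :
    Function.Injective Φ := by
  refine (injective_iff_map_eq_zero _).2 fun p => ?_
  induction hn : p.natDegree using Nat.strong_induction_on generalizing p with
  | _ n ih =>
    intro hp
    have h := Polynomial.X_mul_divX_add p
    have h0 : ψ (p.coeff 0) = 0 := by
      have := congrArg (fun q => Polynomial.coeff (Φ q) 0) h
      simp only [map_add, map_mul, hX, hp, Polynomial.coeff_add, Polynomial.coeff_X_mul_zero, hC,
        zero_add, Polynomial.coeff_zero] at this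
      exact this
    have hc : p.coeff 0 = 0 := hψ (by rw [h0, map_zero])
    rw [hc, map_zero, add_zero] at h
    rcases Nat.eq_zero_or_pos p.natDegree with hd | hd
    · rw [Polynomial.eq_C_of_natDegree_eq_zero hd, hc, map_zero]
    · have hdiv : Φ p.divX = 0 := by
        have := congrArg Φ h
        rw [map_mul, hX, hp] at this
        exact (mul_eq_zero.1 this).resolve_left Polynomial.X_ne_zero
      have hlt : p.divX.natDegree < n := by
        rw [Polynomial.natDegree_divX_eq_natDegree_tsub_one]; omega
      rw [← h, ih _ hlt p.divX rfl hdiv, mul_zero]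

variable (k : Type*) [Field k] {F : Type*} [Field F] [Algebra k F]

/-- The variables, the combination and the extra element. -/
noncomputable def family {n : ℕ} (g : Fin (n + 1) → F) (w : F) :
    Fin (n + 1) ⊕ Fin 2 → MvPolynomial (Fin (n + 1)) F :=
  Sum.elim X ![∑ i, C (g i) * X i, C w]

theorem injective_family_zero (g : Fin 1 → F) (w : F)
    (h : AlgebraicIndependent k ![g 0, w]) :
    Function.Injective (aeval (family g w) : MvPolynomial (Fin 1 ⊕ Fin 2) k →ₐ[k] _) := by
  classical
  let T : MvPolynomial (Fin 1 ⊕ Fin 2) k →ₐ[k] MvPolynomial (Fin 1 ⊕ Fin 2) k :=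
    aeval (Sum.elim (fun i => X (Sum.inl i)) ![X (Sum.inl 0) * X (Sum.inr 0), X (Sum.inr 1)])
  let G : MvPolynomial (Fin 1 ⊕ Fin 2) k →ₐ[k] MvPolynomial (Fin 1) F :=
    aeval (Sum.elim X ![C (g 0), C w])
  have hT : Function.Injective T := by
    let t : (Fin 1 ⊕ Fin 2 →₀ ℕ) → (Fin 1 ⊕ Fin 2 →₀ ℕ) := fun d =>
      Finsupp.single (Sum.inl 0) (d (Sum.inl 0) + d (Sum.inr 0)) +
        Finsupp.single (Sum.inr 0) (d (Sum.inr 0)) + Finsupp.single (Sum.inr 1) (d (Sum.inr 1))
    have ht : Function.Injective t := fun d d' hdd => by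
      have e := fun x => DFunLike.congr_fun hdd x
      ext x
      have e0 := e (Sum.inl 0)
      have e1 := e (Sum.inr 0)
      have e2 := e (Sum.inr 1)
      simp [t] at e0 e1 e2
      rcases x with i | i
      · rw [Subsingleton.elim i 0]; omega
      · fin_cases i
        · exact e1
        · exact e2
    have hmon : ∀ d c, T (monomial d c) = monomial (t d) c := fun d c => by
      rw [aeval_monomial, Finsupp.prod_fintype _ _ (by simp)]
      simp only [Fintype.prod_sum_type, Fin.prod_univ_one, Fin.prod_univ_two, Sum.elim_inl,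
        Sum.elim_inr, Matrix.cons_val_zero, Matrix.cons_val_one, t]
      simp only [mul_pow, X_pow_eq_monomial, monomial_mul, algebraMap_eq, C_mul_monomial, mul_one]
      congr 1
      rw [Finsupp.single_add]
      abel
    have hcoe : ∀ p : MvPolynomial (Fin 1 ⊕ Fin 2) k, ∀ d, coeff (t d) (T p) = coeff d p := by
      intro p d
      induction p using MvPolynomial.induction_on' with
      | monomial d' c => rw [hmon, coeff_monomial, coeff_monomial]; simp [ht.eq_iff]
      | add p q hp hq => rw [map_add, coeff_add, coeff_add, hp, hq]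
    intro p q hpq
    ext d
    rw [← hcoe p d, ← hcoe q d, hpq]
  have hG : Function.Injective G := by
    let ch : MvPolynomial (Fin 1 ⊕ Fin 2) k →ₐ[k] MvPolynomial (Fin 1) (MvPolynomial (Fin 2) k) :=
      (sumAlgEquiv k (Fin 1) (Fin 2)).toAlgHom
    have hch : ∀ q, ch q = sumRingEquiv k (Fin 1) (Fin 2) q := fun q => rfl
    have e : G = (mapAlgHom (aeval ![g 0, w] : MvPolynomial (Fin 2) k →ₐ[k] F)).comp ch := by
      refine algHom_ext fun x => ?_
      rcases x with i | i
      · simp [G, hch]
      · fin_cases i <;> simp [G, hch]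
    rw [e]
    exact (map_injective _ h).comp (sumAlgEquiv k (Fin 1) (Fin 2)).injective
  have e : (aeval (family g w) : MvPolynomial (Fin 1 ⊕ Fin 2) k →ₐ[k] _) = G.comp T := by
    refine algHom_ext fun x => ?_
    rcases x with i | i
    · simp [family, G, T]
    · fin_cases i <;> simp [family, G, T, mul_comm]
  rw [e]
  exact hG.comp hT

theorem injective_family : ∀ (n : ℕ) (g : Fin (n + 1) → F) (w : F),
    AlgebraicIndependent k ![g (Fin.last n), w] →
    Function.Injective (aeval (family g w) : MvPolynomial (Fin (n + 1) ⊕ Fin 2) k →ₐ[k] _)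
  | 0, g, w, h => injective_family_zero k g w h
  | n + 1, g, w, h => by
    let ψ : MvPolynomial (Fin (n + 1) ⊕ Fin 2) k →ₐ[k] MvPolynomial (Fin (n + 1)) F :=
      aeval (family (fun i => g i.succ) w)
    have hψ : Function.Injective ψ := injective_family n (fun i => g i.succ) w (by simpa using h)
    let φ : MvPolynomial (Fin (n + 1 + 1) ⊕ Fin 2) k →ₐ[k] Polynomial (MvPolynomial (Fin (n + 1)) F) :=
      (((finSuccEquiv F (n + 1)).toAlgHom).restrictScalars k).comp (aeval (family g w))
    have hfC : ∀ c : F, finSuccEquiv F (n + 1) (C c) = Polynomial.C (C c) := fun c =>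
      (finSuccEquiv F (n + 1)).commutes c
    let emb : MvPolynomial (Fin (n + 1) ⊕ Fin 2) k →ₐ[k] MvPolynomial (Fin (n + 1 + 1) ⊕ Fin 2) k :=
      rename (Sum.map Fin.succ id)
    let χ : MvPolynomial (Fin (n + 1 + 1) ⊕ Fin 2) k →ₐ[k]
        Polynomial (MvPolynomial (Fin (n + 1) ⊕ Fin 2) k) :=
      aeval (Sum.elim (Fin.cases Polynomial.X fun i => Polynomial.C (X (Sum.inl i)))
        fun j => Polynomial.C (X (Sum.inr j)))
    let Φ : Polynomial (MvPolynomial (Fin (n + 1) ⊕ Fin 2) k) →+*
        Polynomial (MvPolynomial (Fin (n + 1)) F) :=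
      Polynomial.eval₂RingHom (φ.comp emb).toRingHom Polynomial.X
    have hΦC : ∀ r, Φ (Polynomial.C r) = φ (emb r) := fun r => Polynomial.eval₂_C _ _
    have hΦX : Φ Polynomial.X = Polynomial.X := Polynomial.eval₂_X _ _
    have hcoef : ∀ r, (Φ (Polynomial.C r)).coeff 0 = ψ r := fun r => by
      rw [hΦC]
      have e : ((Polynomial.aeval (0 : MvPolynomial (Fin (n + 1)) F)).restrictScalars k).comp
          (φ.comp emb) = ψ := by
        refine algHom_ext fun x => ?_
        rcases x with i | i
        · simp [φ, emb, ψ, family, finSuccEquiv_X_succ]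
        · fin_cases i <;>
            simp [φ, emb, ψ, family, Fin.sum_univ_succ (n := n + 1), hfC, finSuccEquiv_X_succ,
              finSuccEquiv_X_zero, map_sum, Polynomial.eval_finsetSum]
      rw [← e, Polynomial.coeff_zero_eq_aeval_zero]
      rfl
    have hinj : Function.Injective Φ := injective_of_coeff_zero Φ ψ.toRingHom hΦX hcoef hψ
    have hΦχ : φ.toRingHom = Φ.comp χ.toRingHom := by
      refine ringHom_ext (fun c => ?_) fun x => ?_
      · show φ (C c) = Φ (χ (C c))
        rw [show χ (C c) = Polynomial.C (C c) by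
          rw [← algebraMap_eq, AlgHom.commutes]; rfl, hΦC, show emb (C c) = C c from rename_C _ c]
      · show φ (X x) = Φ (χ (X x))
        rcases x with i | i
        · refine Fin.cases ?_ (fun i => ?_) i
          · simp [χ, hΦX, φ, family, finSuccEquiv_X_zero]
          · simp [χ, hΦC, emb]
        · simp [χ, hΦC, emb]
    have hχ : Function.Injective χ := by
      refine Function.LeftInverse.injective (g := fun p => Polynomial.eval₂ emb.toRingHom (X (Sum.inl 0)) p) ?_
      intro p
      induction p using MvPolynomial.induction_on with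
      | C c =>
        dsimp only
        rw [show χ (C c) = Polynomial.C (C c) by rw [← algebraMap_eq, AlgHom.commutes]; rfl,
          show Polynomial.eval₂ emb.toRingHom (X (Sum.inl 0)) (Polynomial.C (C c)) = emb (C c) from
            Polynomial.eval₂_C _ _]
        exact rename_C _ c
      | add p q hp hq => simp only [map_add, Polynomial.eval₂_add, hp, hq]
      | mul_X p x hp =>
        simp only [map_mul, Polynomial.eval₂_mul, hp]
        congr 1
        rcases x with i | i
        · refine Fin.cases ?_ (fun i => ?_) i <;> simp [χ, emb]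
        · simp [χ, emb]
    intro p q hpq
    refine hχ (hinj ?_)
    have h1 := RingHom.congr_fun hΦχ p
    have h2 := RingHom.congr_fun hΦχ q
    simp only [AlgHom.toRingHom_eq_coe, RingHom.coe_coe, RingHom.comp_apply] at h1 h2
    rw [← h1, ← h2]
    exact congrArg (finSuccEquiv F (n + 1)) hpq

theorem independent {m : ℕ} (g : Fin (m + 2) → F)
    (h : AlgebraicIndependent k ![g 1, g 0]) :
    AlgebraicIndependent k (family g (g 0)) := by
  classical
  let e : Fin (m + 2) ≃ Fin (m + 2) := Equiv.swap 1 (Fin.last (m + 1))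
  have h' : AlgebraicIndependent k (family (g ∘ e) (g 0)) :=
    algebraicIndependent_iff_injective_aeval.2 (injective_family k (m + 1) (g ∘ e) (g 0) (by
      simpa [e] using h))
  have h'' := h'.map' (f := (rename e : MvPolynomial (Fin (m + 2)) F →ₐ[F] _).restrictScalars k)
    (rename_injective _ e.injective)
  refine (algebraicIndependent_equiv' (Equiv.sumCongr e (Equiv.refl (Fin 2))) ?_).1 h''
  funext x
  rcases x with i | i
  · simp [family]
  · fin_cases i
    · simp only [Function.comp_apply, Equiv.sumCongr_apply, Sum.map_inr, Equiv.refl_apply, family,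
        Sum.elim_inr, Fin.zero_eta, Matrix.cons_val_zero, AlgHom.restrictScalars_apply, map_sum,
        map_mul, rename_C, rename_X]
      exact (Equiv.sum_comp e fun i => C (g i) * X i).symm
    · simp [family]

/-- Two elements cutting out a component of codimension at least two are independent. -/
theorem independent_pair {A : Type*} [CommRing A] [IsNoetherianRing A] [Algebra k A] (a b : A)
    (p : Ideal A) (hp : p ∈ (Ideal.span {a, b}).minimalPrimes) (hh : ¬ p.height ≤ 1) :
    AlgebraicIndependent k ![b, a] := by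
  classical
  rw [algebraicIndependent_iff]
  intro P hP
  by_contra hne
  let N := P.totalDegree + 1
  let e : (Fin 2 →₀ ℕ) → ℕ := fun d => d 0 + N * d 1
  let Q : Polynomial k := aeval ![Polynomial.X, Polynomial.X ^ N] P
  have hQ : Q = ∑ d ∈ P.support, Polynomial.monomial (e d) (P.coeff d) := by
    conv_lhs => simp only [Q]; rw [P.as_sum, map_sum]
    refine Finset.sum_congr rfl fun d _ => ?_
    rw [aeval_monomial, Finsupp.prod_fintype _ _ (by simp), Fin.prod_univ_two]
    simp only [Matrix.cons_val_zero, Matrix.cons_val_one, ← pow_mul, ← pow_add,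
      Polynomial.algebraMap_eq, Polynomial.C_mul_X_pow_eq_monomial, e]
  obtain ⟨d₀, hd₀⟩ := support_nonempty.2 hne
  have hQne : Q ≠ 0 := by
    intro h0
    have := congrArg (fun q => Polynomial.coeff q (e d₀)) h0
    rw [hQ] at this
    simp only [Polynomial.finset_sum_coeff, Polynomial.coeff_monomial, Polynomial.coeff_zero] at this
    rw [Finset.sum_eq_single d₀ (fun d hd hdd => if_neg fun he => hdd ?_) (fun h => absurd hd₀ h),
      if_pos rfl] at this
    · exact mem_support_iff.1 hd₀ this
    have hb : ∀ d ∈ P.support, d 0 < N := fun d hd => by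
      have := le_totalDegree hd
      rw [Finsupp.sum_fintype _ _ (by simp), Fin.sum_univ_two] at this
      omega
    have h0' : d 0 = d₀ 0 := by
      have := congrArg (· % N) he
      simpa [e, Nat.add_mul_mod_self_left, Nat.mod_eq_of_lt (hb d hd),
        Nat.mod_eq_of_lt (hb d₀ hd₀)] using this
    have h1' : d 1 = d₀ 1 := by
      have : N * d 1 = N * d₀ 1 := by simp only [e] at he; omega
      exact Nat.eq_of_mul_eq_mul_left (Nat.succ_pos _) this
    ext i; fin_cases i <;> [exact h0'; exact h1']
  set c := a - b ^ N with hc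
  have hQb : Polynomial.aeval b Q ∈ Ideal.span {c} := by
    rw [← Ideal.Quotient.eq_zero_iff_mem, ← Ideal.Quotient.mkₐ_eq_mk k]
    have e1 : Ideal.Quotient.mkₐ k (Ideal.span {c}) (Polynomial.aeval b Q) =
        Ideal.Quotient.mkₐ k (Ideal.span {c}) (aeval ![b, a] P) := by
      simp only [Q, ← AlgHom.comp_apply]
      congr 1
      refine algHom_ext fun i => ?_
      fin_cases i
      · simp
      · simp only [AlgHom.comp_apply, aeval_X, map_pow, Polynomial.aeval_X, Fin.mk_one,
          Matrix.cons_val_one, Matrix.cons_val_zero]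
        rw [← map_pow, Ideal.Quotient.mkₐ_eq_mk, eq_comm, Ideal.Quotient.eq, ← hc]
        exact Ideal.mem_span_singleton_self c
    rw [e1, hP, map_zero]
  have hpI : Ideal.span {a, b} ≤ p := hp.1.2
  haveI hpp : p.IsPrime := hp.1.1
  have hbp : b ∈ p := hpI (Ideal.subset_span (by simp))
  have hcp : c ∈ p := by
    rw [hc]
    exact sub_mem (hpI (Ideal.subset_span (by simp))) (Ideal.pow_mem_of_mem _ hbp N (Nat.succ_pos _))
  obtain ⟨Q', hQ', hQ'0⟩ := Polynomial.exists_eq_pow_rootMultiplicity_mul_and_not_dvd Q hQne 0
  simp only [map_zero, sub_zero] at hQ' hQ'0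
  rw [Polynomial.X_dvd_iff] at hQ'0
  refine hh (Ideal.height_le_one_of_isPrincipal_of_mem_minimalPrimes (Ideal.span {c}) p
    ⟨⟨hpp, (Ideal.span_singleton_le_iff_mem _).2 hcp⟩, fun q ⟨hq, hcq⟩ hqp => ?_⟩)
  haveI := hq
  have hu : Polynomial.aeval b Q' ∉ q := fun hmem => by
    have h1 := hqp hmem
    rw [← Polynomial.X_mul_divX_add Q', map_add, map_mul, Polynomial.aeval_X,
      Polynomial.aeval_C] at h1
    have h2 := (Submodule.add_mem_iff_right _ (p.mul_mem_right _ hbp)).1 h1
    exact hpp.ne_top (Ideal.eq_top_of_isUnit_mem _ h2 ((isUnit_iff_ne_zero.2 hQ'0).map _))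
  have hbq : b ∈ q := by
    have h1 := hcq hQb
    rw [hQ', map_mul, map_pow, Polynomial.aeval_X] at h1
    exact hq.mem_of_pow_mem _ ((hq.mem_or_mem h1).resolve_right hu)
  refine hp.2 ⟨hq, Ideal.span_le.2 (Set.insert_subset ?_ (Set.singleton_subset_iff.2 hbq))⟩ hqp
  have h3 := add_mem (hcq (Ideal.mem_span_singleton_self c)) (Ideal.pow_mem_of_mem _ hbq N (Nat.succ_pos _))
  rwa [hc, sub_add_cancel] at h3

end Groth.L28.GenericIndep
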